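import Groth.Agent.H22Alg.KrullAkizuki
import Groth.Agent.H17.PuncturedAffine
import Groth.Agent.H17.NormalNormalization
import Groth.Agent.H17.LocalImm
import Groth.Prelude.Def_FEt
import Mathlib

/-!
Purity over a local ring satisfying the condition on affine opens of its punctured spectrum (EGA IV 21.12).
-/

set_option autoImplicit false
set_option backward.isDefEq.respectTransparency false
set_option linter.style.haveILetI false
universe u

open CategoryTheory CategoryTheory.Limits AlgebraicGeometry TopologicalSpace IsLocalRing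

namespace Groth.Agent.H06Purity

/-- A local domain birationally dominating a one-dimensional Noetherian local domain has no
nonmaximal prime over the closed point (Krull–Akizuki). -/
theorem eq_maximalIdeal_of_birational {A B : Type u} [CommRing A] [IsLocalRing A] [IsNoetherianRing A]
    [CommRing B] [IsLocalRing B] (φ : A →+* B) (qw qz : Ideal B) [qw.IsPrime] [qz.IsPrime]
    (hlt : qw < qz) (hA : ∀ p : Ideal A, p.IsPrime → qw.comap φ < p → p = maximalIdeal A)
    (hb : ∀ b : B, ∃ a s : A, φ s ∉ qw ∧ b * φ s - φ a ∈ qw) : qz = maximalIdeal B := by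
  let P := qw.comap φ
  let R := A ⧸ P
  let C₀ := B ⧸ qw
  letI : Algebra R C₀ := (Ideal.quotientMap qw φ le_rfl).toAlgebra
  have hinj : Function.Injective (algebraMap R C₀) := Ideal.quotientMap_injective
  haveI : Ring.DimensionLEOne R := ⟨fun {p} hp hpp => by
    haveI := hpp
    haveI : (p.comap (Ideal.Quotient.mk P)).IsPrime := inferInstance
    have hlt' : P < p.comap (Ideal.Quotient.mk P) := lt_of_le_of_ne
      (fun a ha => by rw [Ideal.mem_comap, Ideal.Quotient.eq_zero_iff_mem.mpr ha]; exact p.zero_mem) fun he => hp (by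
        rw [← Ideal.map_comap_of_surjective _ Ideal.Quotient.mk_surjective p, ← he, Ideal.map_quotient_self])
    rw [← Ideal.map_comap_of_surjective _ Ideal.Quotient.mk_surjective p]
    haveI : (p.comap (Ideal.Quotient.mk P)).IsMaximal := hA _ inferInstance hlt' ▸ maximalIdeal.isMaximal A
    exact Ideal.IsMaximal.map_of_surjective_of_ker_le Ideal.Quotient.mk_surjective
      (by rw [Ideal.mk_ker]; exact hlt'.le)⟩
  let K := FractionRing R
  let L := FractionRing C₀
  let j : K →ₐ[R] L := IsFractionRing.liftAlgHom (K := K) (g := Algebra.ofId R L)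
    (by rw [show (Algebra.ofId R L : R → L) = algebraMap R L from rfl, IsScalarTower.algebraMap_eq R C₀ L]; exact (IsFractionRing.injective C₀ L).comp hinj)
  let C : Subalgebra R K := (IsScalarTower.toAlgHom R C₀ L).range.comap j
  have hmem : ∀ c : C₀, ∃ k : K, j k = algebraMap C₀ L c := fun c => by
    obtain ⟨b, rfl⟩ := Ideal.Quotient.mk_surjective c
    obtain ⟨a, s, hs, hba⟩ := hb b
    refine ⟨algebraMap R K (Ideal.Quotient.mk P a) / algebraMap R K (Ideal.Quotient.mk P s), ?_⟩
    have e : ∀ t : A, j (algebraMap R K (Ideal.Quotient.mk P t)) = algebraMap C₀ L (Ideal.Quotient.mk qw (φ t)) :=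
      fun t => (j.commutes _).trans (IsScalarTower.algebraMap_apply R C₀ L _)
    rw [map_div₀, e, e, eq_comm, eq_div_iff, ← map_mul, ← map_mul]
    · exact congrArg _ (Ideal.Quotient.eq.mpr hba)
    · exact (map_ne_zero_iff _ (IsFractionRing.injective C₀ L)).mpr (mt Ideal.Quotient.eq_zero_iff_mem.mp hs)
  let ψ : C →+* C₀ :=
    { toFun := fun c => c.2.choose
      map_one' := IsFractionRing.injective C₀ L (((1 : C)).2.choose_spec.trans ((map_one j).trans (map_one _).symm))
      map_zero' := IsFractionRing.injective C₀ L (((0 : C)).2.choose_spec.trans ((map_zero j).trans (map_zero _).symm))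
      map_mul' := fun c d => IsFractionRing.injective C₀ L ((c * d).2.choose_spec.trans (by
        rw [map_mul]
        exact (map_mul j c.1 d.1).trans (congrArg₂ (· * ·) c.2.choose_spec.symm d.2.choose_spec.symm)))
      map_add' := fun c d => IsFractionRing.injective C₀ L ((c + d).2.choose_spec.trans (by
        rw [map_add]
        exact (map_add j c.1 d.1).trans (congrArg₂ (· + ·) c.2.choose_spec.symm d.2.choose_spec.symm))) }
  have hψj : ∀ c : C, algebraMap C₀ L (ψ c) = j c.1 := fun c => c.2.choose_spec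
  have hψ : Function.Surjective ψ := fun c => by
    obtain ⟨k, hk⟩ := hmem c
    exact ⟨⟨k, c, hk.symm⟩, IsFractionRing.injective C₀ L ((hψj _).trans hk)⟩
  have hψi : Function.Injective ψ := fun c d h => Subtype.ext (j.toRingHom.injective (by
    show j c.1 = j d.1
    rw [← hψj, ← hψj, h]))
  haveI := H22Alg.dimensionLEOne_subalgebra C
  let π := Ideal.Quotient.mk qw
  haveI : (qz.map π).IsPrime := Ideal.map_isPrime_of_surjective Ideal.Quotient.mk_surjective
    (by rw [Ideal.mk_ker]; exact hlt.le)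
  have hne : (qz.map π).comap ψ ≠ ⊥ := fun h => by
    obtain ⟨x, hx, hxw⟩ := SetLike.exists_of_lt hlt
    obtain ⟨c, hc⟩ := hψ (π x)
    have : c ∈ (qz.map π).comap ψ := by rw [Ideal.mem_comap, hc]; exact Ideal.mem_map_of_mem _ hx
    rw [h, Ideal.mem_bot] at this
    rw [this, map_zero] at hc
    exact hxw (Ideal.Quotient.eq_zero_iff_mem.mp hc.symm)
  haveI hmax : ((qz.map π).comap ψ).IsMaximal := (inferInstance : ((qz.map π).comap ψ).IsPrime).isMaximal hne
  have h1 : (qz.map π).IsMaximal := by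
    rw [← Ideal.map_comap_of_surjective ψ hψ (qz.map π)]
    exact Ideal.IsMaximal.map_of_surjective_of_ker_le hψ
      (by rw [(RingHom.injective_iff_ker_eq_bot ψ).mp hψi]; exact bot_le)
  have h2 : qz = (qz.map π).comap π := by
    rw [Ideal.comap_map_of_surjective _ Ideal.Quotient.mk_surjective, ← RingHom.ker_eq_comap_bot, Ideal.mk_ker,
      sup_eq_left.mpr hlt.le]
  rw [h2]
  exact IsLocalRing.eq_maximalIdeal (Ideal.comap_isMaximal_of_surjective _ Ideal.Quotient.mk_surjective)

/-- Chains `w ⤳ z ⤳ x` birational to a one-dimensional local domain of the base do not exist. -/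
theorem eq_of_birational_chain {X Y : Scheme.{u}} [IsLocallyNoetherian Y] (g : X ⟶ Y) (x z w : X)
    (hwz : w ⤳ z) (hzx : z ⤳ x) (hgz : g z = g x) (hgw : g w ≠ g x) [IsIso (g.stalkMap w)]
    (hdim : ∀ v : Y, v ⤳ g x → g w ⤳ v → v = g w ∨ v = g x) : z = x := by
  have hwx := hwz.trans hzx
  let B := X.presheaf.stalk x
  let A := Y.presheaf.stalk (g x)
  let φ : A →+* B := (g.stalkMap x).hom
  let pw : Spec B := Spec.map (X.presheaf.stalkSpecializes hwx) (closedPoint (X.presheaf.stalk w))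
  have hpw : X.fromSpecStalk x pw = w := by
    rw [← Scheme.Hom.comp_apply, Scheme.SpecMap_stalkSpecializes_fromSpecStalk, Scheme.fromSpecStalk_closedPoint]
  obtain ⟨pz, hpz⟩ : z ∈ Set.range (X.fromSpecStalk x) := by rw [Scheme.range_fromSpecStalk]; exact hzx
  have hinj := (X.fromSpecStalk x).isEmbedding
  haveI := pw.2; haveI := pz.2
  have hle : pw.asIdeal ≤ pz.asIdeal := (PrimeSpectrum.le_iff_specializes pw pz).mpr
    (hinj.isInducing.specializes_iff.mp (by rwa [hpw, hpz]))
  have hlt : pw.asIdeal < pz.asIdeal := lt_of_le_of_ne hle fun h => hgw (by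
    rw [← hgz, ← hpw, ← hpz, PrimeSpectrum.ext h])
  have hY : ∀ p : Spec B, Y.fromSpecStalk (g x) (Spec.map (g.stalkMap x) p) = g (X.fromSpecStalk x p) := fun p => by
    rw [← Scheme.Hom.comp_apply, Scheme.SpecMap_stalkMap_fromSpecStalk, Scheme.Hom.comp_apply]
  have hmax := eq_maximalIdeal_of_birational φ pw.asIdeal pz.asIdeal hlt (fun p hp hlt' => ?_) (fun b => ?_)
  · rw [← hpz, show pz = closedPoint B from PrimeSpectrum.ext hmax, Scheme.fromSpecStalk_closedPoint]
  · let v : Spec A := ⟨p, hp⟩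
    have hsp : Y.fromSpecStalk (g x) (Spec.map (g.stalkMap x) pw) ⤳ Y.fromSpecStalk (g x) v :=
      ((PrimeSpectrum.le_iff_specializes (Spec.map (g.stalkMap x) pw) v).mp hlt'.le).map (Scheme.Hom.continuous _)
    rw [hY, hpw] at hsp
    have hvx : Y.fromSpecStalk (g x) v ⤳ g x := by
      have : Y.fromSpecStalk (g x) v ∈ Set.range (Y.fromSpecStalk (g x)) := ⟨v, rfl⟩
      rwa [Scheme.range_fromSpecStalk] at this
    rcases hdim _ hvx hsp with h | h
    · exfalso
      rw [← hpw, ← hY] at h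
      exact hlt'.ne (congrArg PrimeSpectrum.asIdeal ((Y.fromSpecStalk (g x)).isEmbedding.injective h)).symm
    · exact congrArg PrimeSpectrum.asIdeal ((Y.fromSpecStalk (g x)).isEmbedding.injective
        (h.trans (Scheme.fromSpecStalk_closedPoint).symm))
  · let σ := X.presheaf.stalkSpecializes hwx
    obtain ⟨a, s, hs, has⟩ := H17.NormalNormalization.stalkSpecializes_exists_div
      (g.base.hom.map_specializes hwx) (inv (g.stalkMap w) (σ b))
    have hτ : ∀ t : A, g.stalkMap w (Y.presheaf.stalkSpecializes (g.base.hom.map_specializes hwx) t) = σ (φ t) :=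
      fun t => Scheme.Hom.stalkSpecializes_stalkMap_apply g w x hwx t
    have hq : ∀ t : B, t ∈ pw.asIdeal ↔ ¬ IsUnit (σ t) := fun t => Iff.rfl
    refine ⟨a, s, fun hm => (hq _).mp hm ?_, ?_⟩
    · rw [← hτ]; exact hs.map _
    · have h1 := congrArg (g.stalkMap w) has
      rw [map_mul, hτ, hτ, ← CommRingCat.comp_apply, IsIso.inv_hom_id, CommRingCat.id_apply] at h1
      rw [hq, map_sub, map_mul, h1, sub_self]
      exact not_isUnit_zero

/-- The main step: a non-isolated maximal point of the exceptional fibre has codimension at most one. -/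
theorem dim_le_one_of_condition {X Y : Scheme.{u}}
    [IsLocallyNoetherian X] [IsLocallyNoetherian Y] (g : X ⟶ Y) (y : Y) (Y' : Y.Opens)
    (hY' : (Y' : Set Y) = (closure {y})ᶜ) [IsOpenImmersion (g ∣_ Y')]
    (hW : (∀ U : (Spec (Y.presheaf.stalk y)).Opens, ∀ hU : U ≤ FEt.puncturedSpec ↑(Y.presheaf.stalk y),
        (∀ T ∈ irreducibleComponents ↥(FEt.puncturedSpec ↑(Y.presheaf.stalk y)), ¬ Subtype.val '' T ⊆ (U : Set _)) →
        IsAffineHom ((Spec (Y.presheaf.stalk y)).homOfLE hU) → IsAffineOpen U))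
    (z x : X) (hz : g z = y) (hmax : ∀ z' : X, g z' = y → z' ⤳ z → z' = z)
    (hx : g x = y) (hzx : z ⤳ x) (hne : x ≠ z) :
    ringKrullDim (X.presheaf.stalk z) ≤ 1 := by
  classical
  set A := Y.presheaf.stalk y
  have hmemY' : ∀ v, v ∈ Y' ↔ ¬ y ⤳ v := fun v => by
    show v ∈ (Y' : Set Y) ↔ _
    rw [hY', specializes_iff_mem_closure]; rfl
  let e := g ∣_ Y'
  have hsub : ∀ a b : X, g a ∈ Y' → g a = g b → a = b := fun a b ha hab => by
    have hb : g b ∈ Y' := hab ▸ ha
    exact congrArg Subtype.val (e.isEmbedding.injective (a₁ := (⟨a, ha⟩ : ↥(g ⁻¹ᵁ Y'))) (a₂ := ⟨b, hb⟩)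
      (Y'.ι.isEmbedding.injective (by
        rw [← Scheme.Hom.comp_apply, ← Scheme.Hom.comp_apply, morphismRestrict_ι]
        exact hab)))
  have hiso : ∀ w : X, g w ∈ Y' → IsIso (g.stalkMap w) := fun w hw => by
    refine H17.LocalImm.isIso_stalkMap_of_isLocalIsoAt g w ⟨g ⁻¹ᵁ Y', hw, ?_⟩
    rw [← morphismRestrict_ι]; infer_instance
  let P := FEt.puncturedSpec ↑A
  haveI : IsNoetherianRing A := inferInstance
  haveI : NoetherianSpace ↥(Spec A) := inferInstanceAs (NoetherianSpace (PrimeSpectrum A))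
  haveI : CompactSpace ↥P := isCompact_iff_compactSpace.mp (NoetherianSpace.isCompact _)
  haveI : NoetherianSpace ↥P := Topology.IsEmbedding.subtypeVal.isInducing.noetherianSpace
  have hfin : (irreducibleComponents ↥P).Finite := NoetherianSpace.finite_irreducibleComponents
  -- a closed point of the punctured spectrum in each component
  have hchoose : ∀ T : ↥(irreducibleComponents ↥P), ∃ t : ↥P, t ∈ T.1 ∧ IsClosed ({t} : Set ↥P) := fun T =>
    (isClosed_of_mem_irreducibleComponents _ T.2).exists_closed_singleton T.2.1.nonempty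
  choose t htT htc using hchoose
  let wY : ↥(irreducibleComponents ↥P) → Y := fun T => Y.fromSpecStalk y (t T).1
  have hsurjy : Y.fromSpecStalk y (closedPoint A) = y := Scheme.fromSpecStalk_closedPoint
  have hemb := (Y.fromSpecStalk y).isEmbedding
  have hwY : ∀ T, wY T ≠ y := fun T h => (t T).2 (hemb.injective (h.trans hsurjy.symm))
  have hbad : ∀ T, z ∉ closure (g ⁻¹' {wY T}) := fun T hmem => by
    rcases (g ⁻¹' {wY T}).eq_empty_or_nonempty with he | ⟨w, hw⟩
    · rw [he, closure_empty] at hmem; exact hmem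
    have hwY' : g w ∈ Y' := (hmemY' _).mpr (by
      rw [show g w = wY T from hw]
      intro hsp
      have hmem : wY T ∈ Set.range (Y.fromSpecStalk y) := ⟨_, rfl⟩
      rw [Scheme.range_fromSpecStalk] at hmem
      exact hwY T ((show wY T ⤳ y from hmem).antisymm hsp).eq)
    have hset : g ⁻¹' {wY T} = {w} :=
      Set.eq_singleton_iff_unique_mem.mpr ⟨hw, fun a ha => (hsub w a hwY' ((show g w = wY T from hw).trans
        (show g a = wY T from ha).symm)).symm⟩
    rw [hset] at hmem
    haveI := hiso w hwY'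
    refine hne (eq_of_birational_chain g x z w (specializes_iff_mem_closure.mpr hmem) hzx (hz.trans hx.symm)
      (by rw [show g w = wY T from hw, hx]; exact hwY T) fun v hv hwv => ?_).symm
    rw [hx] at hv ⊢
    rw [show g w = wY T from hw] at hwv ⊢
    obtain ⟨v', rfl⟩ : v ∈ Set.range (Y.fromSpecStalk y) := by rw [Scheme.range_fromSpecStalk]; exact hv
    by_cases hv' : v' = closedPoint A
    · exact Or.inr (by rw [hv', hsurjy])
    · refine Or.inl (congrArg (Y.fromSpecStalk y) ?_)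
      have h1 : (t T : ↥P) ⤳ (⟨v', hv'⟩ : ↥P) := (subtype_specializes_iff _ _).mpr (hemb.isInducing.specializes_iff.mp hwv)
      have h2 : (⟨v', hv'⟩ : ↥P) ∈ ({t T} : Set ↥P) := h1.mem_closed (htc T) rfl
      exact congrArg Subtype.val h2
  haveI : Finite ↥(irreducibleComponents ↥P) := hfin.to_subtype
  let bad : X.Opens := ⟨(⋃ T, closure (g ⁻¹' {wY T}))ᶜ, (isClosed_iUnion_of_finite fun _ => isClosed_closure).isOpen_compl⟩
  -- affine charts
  obtain ⟨(WY : Y.Opens), (hWY : IsAffineOpen WY), hyW, -⟩ := Opens.isBasis_iff_nbhd.mp Y.isBasis_affineOpens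
    (show y ∈ (⊤ : Y.Opens) from trivial)
  obtain ⟨(V : X.Opens), (hV : IsAffineOpen V), hzV, hVle⟩ := Opens.isBasis_iff_nbhd.mp X.isBasis_affineOpens
    (show z ∈ g ⁻¹ᵁ WY ⊓ bad from ⟨show g z ∈ WY from hz ▸ hyW, fun h => by
      obtain ⟨T, hT⟩ := Set.mem_iUnion.mp h
      exact hbad T hT⟩)
  have hVW : V ≤ g ⁻¹ᵁ WY := hVle.trans inf_le_left
  let V' : X.Opens := V ⊓ g ⁻¹ᵁ Y'
  let k := V'.ι ≫ g
  haveI : IsOpenImmersion k := by
    show IsOpenImmersion (V'.ι ≫ g)
    rw [← X.homOfLE_ι (inf_le_right : V' ≤ g ⁻¹ᵁ Y'), Category.assoc, ← morphismRestrict_ι]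
    infer_instance
  let G : Y.Opens := k.opensRange
  have hG : ∀ v, v ∈ G ↔ ∃ a ∈ V', g a = v := fun v =>
    ⟨fun ⟨a, ha⟩ => ⟨a.1, a.2, ha⟩, fun ⟨a, ha, hav⟩ => ⟨⟨a, ha⟩, hav⟩⟩
  let U : (Spec A).Opens := Y.fromSpecStalk y ⁻¹ᵁ G
  have hU : U ≤ P := fun p hp hpc => by
    obtain ⟨a, ha, hav⟩ := (hG _).mp hp
    exact (hmemY' _).mp ha.2 (by rw [hav, show p = closedPoint A from hpc, hsurjy])
  have hcomp : ∀ T ∈ irreducibleComponents ↥P, ¬ Subtype.val '' T ⊆ (U : Set _) := fun T hT hTU => by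
    obtain ⟨a, ha, hav⟩ := (hG _).mp (hTU ⟨t ⟨T, hT⟩, htT ⟨T, hT⟩, rfl⟩)
    exact (hVle ha.1).2 (Set.mem_iUnion.mpr ⟨⟨T, hT⟩, subset_closure hav⟩)
  have haff : IsAffineHom ((Spec A).homOfLE hU) := by
    refine isAffineHom_of_forall_exists_isAffineOpen _ fun p => ?_
    letI : Algebra Γ(Y, WY) A := TopCat.Presheaf.algebra_section_stalk Y.presheaf ⟨y, hyW⟩
    haveI : IsLocalization.AtPrime A (hWY.primeIdealOf ⟨y, hyW⟩).asIdeal := hWY.isLocalization_stalk ⟨y, hyW⟩
    obtain ⟨a, ham, hap⟩ : ∃ a ∈ maximalIdeal A, a ∉ p.1.asIdeal := SetLike.exists_of_lt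
      (lt_of_le_of_ne (le_maximalIdeal p.1.2.ne_top) fun h => p.2 (PrimeSpectrum.ext h))
    obtain ⟨b, s, rfl⟩ := IsLocalization.exists_mk'_eq (hWY.primeIdealOf ⟨y, hyW⟩).asIdeal.primeCompl a
    set a' : A := Y.presheaf.germ WY y hyW b
    have hab : ∀ I : Ideal A, IsLocalization.mk' A b s ∈ I ↔ a' ∈ I := fun I => by
      rw [show a' = IsLocalization.mk' A b s * algebraMap Γ(Y, WY) A s from (IsLocalization.mk'_spec A b s).symm,
        I.mul_unit_mem_iff_mem (IsLocalization.map_units A s)]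
    rw [hab] at ham hap
    let D : Y.Opens := Y.basicOpen b
    have hD : ∀ q : Spec A, Y.fromSpecStalk y q ∈ D ↔ a' ∉ q.asIdeal := fun q => by
      rw [← hWY.fromSpecStalk_eq_fromSpecStalk hyW]
      show Spec.map (Y.presheaf.germ WY y hyW) q ∈ hWY.fromSpec ⁻¹ᵁ D ↔ _
      rw [hWY.fromSpec_preimage_basicOpen]
      rfl
    have hyD : y ∉ D := fun h => by
      rw [← hsurjy, hD] at h
      exact h ham
    have hDW : D ≤ WY := Y.basicOpen_le _
    have hGD : IsAffineOpen (G ⊓ D) := by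
      let O : X.Opens := X.basicOpen (g.appLE WY V hVW b)
      have hOdef : ∀ v, v ∈ O ↔ v ∈ V ∧ g v ∈ D := fun v => by
        rw [show O = V ⊓ g ⁻¹ᵁ D from Scheme.basicOpen_appLE g V WY hVW b]
        rfl
      have hOV : O ≤ V' := fun v hv => ⟨((hOdef v).mp hv).1, (hmemY' _).mpr fun h => hyD (h.mem_open D.2 ((hOdef v).mp hv).2)⟩
      have h1 : IsAffineOpen (k ''ᵁ (V'.ι ⁻¹ᵁ O)) :=
        ((hV.basicOpen _).preimage_of_isOpenImmersion V'.ι (by rw [Scheme.Opens.opensRange_ι]; exact hOV)).image_of_isOpenImmersion k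
      convert h1 using 1
      ext v
      constructor
      · rintro ⟨hvG, hvD⟩
        obtain ⟨⟨c, hc⟩, rfl⟩ := hvG
        exact ⟨⟨c, hc⟩, (hOdef c).mpr ⟨hc.1, hvD⟩, rfl⟩
      · rintro ⟨c, hc, rfl⟩
        exact ⟨⟨c, rfl⟩, ((hOdef c.1).mp hc).2⟩
    let DA : (Spec A).Opens := Y.fromSpecStalk y ⁻¹ᵁ D
    have hDA : DA = PrimeSpectrum.basicOpen a' := Opens.ext (Set.ext fun q => hD q)
    have hDP : DA ≤ P := fun q hq hqc => hyD (by rw [← hsurjy, ← show q = closedPoint A from hqc]; exact hq)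
    have hUD : IsAffineOpen (U ⊓ DA) := by
      have h1 : IsAffineOpen (hWY.fromSpec ⁻¹ᵁ (G ⊓ D)) :=
        hGD.preimage_of_isOpenImmersion hWY.fromSpec (by rw [hWY.opensRange_fromSpec]; exact inf_le_right.trans hDW)
      have h2 := IsAffineOpen.preimage h1 (Spec.map (Y.presheaf.germ WY y hyW))
      rwa [← Scheme.Hom.comp_preimage, show Spec.map (Y.presheaf.germ WY y hyW) ≫ hWY.fromSpec = Y.fromSpecStalk y from
        hWY.fromSpecStalk_eq_fromSpecStalk hyW] at h2
    refine ⟨P.ι ⁻¹ᵁ DA, show Y.fromSpecStalk y p.1 ∈ D from (hD p.1).mpr hap, ?_, ?_⟩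
    · have hDA' : IsAffineOpen DA := by
        rw [hDA, ← basicOpen_eq_of_affine]
        exact (isAffineOpen_top _).basicOpen _
      exact hDA'.preimage_of_isOpenImmersion P.ι (by rw [Scheme.Opens.opensRange_ι]; exact hDP)
    · rw [← Scheme.Hom.comp_preimage, show (Spec A).homOfLE hU ≫ P.ι = U.ι from Scheme.homOfLE_ι _ hU]
      have : U.ι ⁻¹ᵁ DA = U.ι ⁻¹ᵁ (U ⊓ DA) := Opens.ext (Set.ext fun q => ⟨fun h => ⟨q.2, h⟩, fun h => h.2⟩)
      rw [this]
      exact hUD.preimage_of_isOpenImmersion U.ι (by rw [Scheme.Opens.opensRange_ι]; exact inf_le_left)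
  have hUaff := hW U hU hcomp haff
  -- pull back to the local ring at z
  subst hz
  refine H17.PuncturedAffine.ringKrullDim_le_one_of_isAffineOpen (A := X.presheaf.stalk z)
    (Spec.map (g.stalkMap z) ⁻¹ᵁ U) (IsAffineOpen.preimage hUaff _) fun p => ?_
  have hp : Y.fromSpecStalk (g z) (Spec.map (g.stalkMap z) p) = g (X.fromSpecStalk z p) := by
    rw [← Scheme.Hom.comp_apply, Scheme.SpecMap_stalkMap_fromSpecStalk, Scheme.Hom.comp_apply]
  have hpz : X.fromSpecStalk z p ⤳ z := by
    have : X.fromSpecStalk z p ∈ Set.range (X.fromSpecStalk z) := ⟨p, rfl⟩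
    rwa [Scheme.range_fromSpecStalk] at this
  show Y.fromSpecStalk (g z) (Spec.map (g.stalkMap z) p) ∈ G ↔ _
  rw [hp]
  constructor
  · intro h hpc
    obtain ⟨a, ha, hav⟩ := (hG _).mp h
    rw [show p = closedPoint (X.presheaf.stalk z) from hpc, Scheme.fromSpecStalk_closedPoint] at hav
    exact (hmemY' _).mp ha.2 (by rw [hav])
  · intro h
    refine (hG _).mpr ⟨_, ⟨hpz.mem_open V.2 hzV, (hmemY' _).mpr fun he => h ?_⟩, rfl⟩
    exact (X.fromSpecStalk z).isEmbedding.injective ((hmax _ ((hpz.map g.continuous).antisymm he).eq hpz).trans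
      Scheme.fromSpecStalk_closedPoint.symm)

end Groth.Agent.H06Purity
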