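import Groth.Agent.H06Purity.ConditionW
import Groth.Agent.H06Equidim.AffineSpace
import Groth.Agent.H06EGA14.FibreDims
import Groth.Prelude.Def_SchLoc

/-!
Purity for the locus where a morphism locally of finite type is not a local isomorphism (EGA IV 21.12).
-/

set_option autoImplicit false
set_option backward.isDefEq.respectTransparency false
set_option linter.style.haveILetI false
universe u

open CategoryTheory CategoryTheory.Limits AlgebraicGeometry TopologicalSpace IsLocalRing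

namespace Groth.Agent.H06Purity

/-- A local isomorphism point is closed in its fibre. -/
theorem eq_of_specializes_of_localIso {X Y : Scheme.{u}} (g : X ⟶ Y) [LocallyOfFiniteType g] (p q : X)
    (hp : SchLoc.IsLocalIsoAt g p) (h : p ⤳ q) (hf : g p = g q) : q = p := by
  obtain ⟨W, hpW, hW⟩ := hp
  have hqf : g.QuasiFiniteAt p :=
    Scheme.Hom.quasiFiniteAt_comp_iff_of_isOpenImmersion.mp ((W.ι ≫ g).quasiFiniteAt ⟨p, hpW⟩)
  have hc := hqf.isClopen_singleton_asFiber.1
  obtain ⟨v, rfl⟩ : q ∈ Set.range (g.fiberι (g p)) := by rw [g.range_fiberι]; exact hf.symm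
  have h1 : g.asFiber p ⤳ v := (g.fiberι (g p)).isEmbedding.isInducing.specializes_iff.mp (by rwa [g.fiberι_asFiber])
  rw [show v = g.asFiber p from h1.mem_closed hc rfl, g.fiberι_asFiber]

/-- A local isomorphism with separated, irreducible source is an open immersion. -/
theorem isOpenImmersion_of_localIso {X Y : Scheme.{u}} [IrreducibleSpace X] (g : X ⟶ Y) [IsSeparated g]
    [LocallyOfFiniteType g] (h : ∀ x, SchLoc.IsLocalIsoAt g x) : IsOpenImmersion g := by
  have hiso : ∀ x, IsIso (g.stalkMap x) := fun x => H17.LocalImm.isIso_stalkMap_of_isLocalIsoAt g x (h x)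
  have himm : SchLoc.IsLocalImmersion g := fun x =>
    H17.LocalImm.isLocalImmersionAt_of_surjective_stalkMap g x
      (@ConcreteCategory.bijective_of_isIso _ _ _ _ _ _ _ _ (g.stalkMap x) (hiso x)).2
  have hinj := H17.LocalImm.injective_of_isSeparated g himm
  have hopen : IsOpenMap g := by
    intro O hO
    rw [isOpen_iff_forall_mem_open]
    rintro _ ⟨x, hxO, rfl⟩
    obtain ⟨W, hxW, hW⟩ := h x
    refine ⟨(W.ι ≫ g) '' (W.ι ⁻¹' O), ?_, (W.ι ≫ g).isOpenEmbedding.isOpenMap _ (hO.preimage W.ι.continuous),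
      ⟨⟨x, hxW⟩, hxO, rfl⟩⟩
    rintro _ ⟨w, hw, rfl⟩
    exact ⟨W.ι w, hw, rfl⟩
  exact IsOpenImmersion.iff_isIso_stalkMap.mpr
    ⟨Topology.IsOpenEmbedding.of_continuous_injective_isOpenMap g.continuous hinj hopen, hiso⟩

/-- Being a local isomorphism can be tested on an open subscheme. -/
theorem localIsoAt_opens_ι {X Y : Scheme.{u}} (g : X ⟶ Y) (O : X.Opens) (p : O.toScheme)
    (h : SchLoc.IsLocalIsoAt g (O.ι p)) : SchLoc.IsLocalIsoAt (O.ι ≫ g) p := by
  obtain ⟨W, hW, hWi⟩ := h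
  refine ⟨O.ι ⁻¹ᵁ W, hW, ?_⟩
  rw [← Category.assoc, ← morphismRestrict_ι, Category.assoc]
  infer_instance

/-- Near a point maximal among those where a morphism is not a local isomorphism, the others are its
specializations. -/
theorem exists_open_notLocalIso_subset {X Y : Scheme.{u}} [IsLocallyNoetherian X] (g : X ⟶ Y) (z : X)
    (hmax : ∀ z' : X, ¬ SchLoc.IsLocalIsoAt g z' → z' ⤳ z → z' = z) (V : X.Opens) (hV : IsAffineOpen V)
    (hz : z ∈ V) :
    ∃ O : X.Opens, z ∈ O ∧ O ≤ V ∧ ∀ p ∈ O, ¬ SchLoc.IsLocalIsoAt g p → z ⤳ p := by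
  haveI : IsNoetherianRing Γ(X, V) := IsLocallyNoetherian.component_noetherian ⟨V, hV⟩
  let T : Set (Spec Γ(X, V)) := {p | ¬ SchLoc.IsLocalIsoAt g (hV.fromSpec p)}
  have hT : IsClosed T := by
    rw [← isOpen_compl_iff, isOpen_iff_forall_mem_open]
    intro p hp
    obtain ⟨W, hpW, hW⟩ := not_not.mp hp
    exact ⟨hV.fromSpec ⁻¹' W, fun q hq => not_not.mpr ⟨W, hq, hW⟩, W.2.preimage hV.fromSpec.continuous, hpW⟩
  haveI : NoetherianSpace (Spec Γ(X, V)) := inferInstanceAs (NoetherianSpace (PrimeSpectrum Γ(X, V)))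
  haveI : NoetherianSpace ↥T := Topology.IsEmbedding.subtypeVal.isInducing.noetherianSpace
  haveI : QuasiSober ↥T := hT.isClosedEmbedding_subtypeVal.quasiSober
  have hfin : (irreducibleComponents ↥T).Finite := NoetherianSpace.finite_irreducibleComponents
  let others : Set (Set ↥T) := {K ∈ irreducibleComponents ↥T | ∀ q ∈ K, hV.fromSpec q.1 ≠ z}
  have hcl : IsClosed (⋃ K ∈ others, Subtype.val '' K) :=
    (hfin.subset fun K hK => hK.1).isClosed_biUnion fun K hK =>
      hT.isClosedEmbedding_subtypeVal.isClosedMap _ (isClosed_of_mem_irreducibleComponents K hK.1)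
  let U : (Spec Γ(X, V)).Opens := ⟨_, hcl.isOpen_compl⟩
  obtain ⟨c, rfl⟩ : z ∈ Set.range hV.fromSpec := by rw [hV.range_fromSpec]; exact hz
  refine ⟨hV.fromSpec ''ᵁ U, ⟨c, fun h => ?_, rfl⟩, ?_, ?_⟩
  · obtain ⟨K, hK, q, hq, hqc⟩ := Set.mem_iUnion₂.mp h
    exact hK.2 q hq (by rw [hqc])
  · rintro _ ⟨a, -, rfl⟩
    exact hV.range_fromSpec.le ⟨a, rfl⟩
  · rintro _ ⟨a, ha, rfl⟩ hna
    let a' : ↥T := ⟨a, hna⟩
    obtain ⟨K, hK, haK⟩ : ∃ K ∈ irreducibleComponents ↥T, a' ∈ K :=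
      ⟨irreducibleComponent a', irreducibleComponent_mem_irreducibleComponents a', mem_irreducibleComponent⟩
    obtain ⟨q, hq, hqc⟩ : ∃ q ∈ K, hV.fromSpec q.1 = hV.fromSpec c := by
      by_contra hn
      exact ha (Set.mem_iUnion₂.mpr ⟨K, ⟨hK, fun q hq h => hn ⟨q, hq, h⟩⟩, a', haK, rfl⟩)
    obtain ⟨θ, hθ⟩ := QuasiSober.sober hK.1 (isClosed_of_mem_irreducibleComponents K hK)
    have hθz : hV.fromSpec θ.1 ⤳ hV.fromSpec c :=
      hqc ▸ ((hθ.specializes hq).map continuous_subtype_val).map hV.fromSpec.continuous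
    rw [← hmax _ θ.2 hθz]
    exact ((hθ.specializes haK).map continuous_subtype_val).map hV.fromSpec.continuous

set_option maxHeartbeats 400000 in
/-- Purity of the locus where a morphism is not a local isomorphism, over local rings with the
condition on affine opens of the punctured spectrum. -/
theorem purity_notLocalIso {X Y : Scheme.{u}}
    [IsLocallyNoetherian X] [IsLocallyNoetherian Y] [IrreducibleSpace X] (g : X ⟶ Y) [LocallyOfFiniteType g]
    (hW : ∀ y : Y, (∀ U : (Spec (Y.presheaf.stalk y)).Opens, ∀ hU : U ≤ FEt.puncturedSpec ↑(Y.presheaf.stalk y),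
        (∀ T ∈ irreducibleComponents ↥(FEt.puncturedSpec ↑(Y.presheaf.stalk y)), ¬ Subtype.val '' T ⊆ (U : Set _)) →
        IsAffineHom ((Spec (Y.presheaf.stalk y)).homOfLE hU) → IsAffineOpen U))
    (z : X) (hz : ¬ SchLoc.IsLocalIsoAt g z)
    (hmax : ∀ z' : X, ¬ SchLoc.IsLocalIsoAt g z' → z' ⤳ z → z' = z) :
    ringKrullDim (X.presheaf.stalk z) ≤ 1 ∨
      ∃ O : X.Opens, z ∈ O ∧ ∀ z' : X, z' ∈ O → g z' = g z → z' = z := by
  classical
  by_cases hgen : genericPoint X = z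
  · left
    letI := specializationOrder X
    rw [ringKrullDim_stalk_eq_coheight, Order.coheight_eq_zero.mpr]
    · exact zero_le_one
    · intro b hb
      have h1 : b ⤳ z := hb
      show z ⤳ b
      exact hgen ▸ genericPoint_specializes b
  obtain ⟨(WY : Y.Opens), (hWY : IsAffineOpen WY), hzW, -⟩ := Opens.isBasis_iff_nbhd.mp Y.isBasis_affineOpens
    (show g z ∈ (⊤ : Y.Opens) from trivial)
  obtain ⟨(V : X.Opens), (hV : IsAffineOpen V), hzV, hVW⟩ := Opens.isBasis_iff_nbhd.mp X.isBasis_affineOpens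
    (show z ∈ g ⁻¹ᵁ WY from hzW)
  obtain ⟨O, hzO, hOV, hOT⟩ := exists_open_notLocalIso_subset g z hmax V hV hzV
  let g₁ : O.toScheme ⟶ Y := O.ι ≫ g
  haveI : LocallyOfFiniteType g₁ := inferInstanceAs (LocallyOfFiniteType (O.ι ≫ g))
  haveI : IsSeparated g₁ := by
    haveI : IsAffine V.toScheme := hV
    have h : O.ι ≫ g = X.homOfLE hOV ≫ g.resLE WY V hVW ≫ WY.ι := by
      rw [Scheme.Hom.resLE_comp_ι, ← Category.assoc, Scheme.homOfLE_ι]
    haveI : IsAffine WY.toScheme := hWY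
    show IsSeparated (O.ι ≫ g)
    rw [h]; infer_instance
  haveI : IsLocallyNoetherian O.toScheme := isLocallyNoetherian_of_isOpenImmersion O.ι
  let Y' : Y.Opens := ⟨(closure {g z})ᶜ, isClosed_closure.isOpen_compl⟩
  have hY'iso : ∀ p : O.toScheme, g₁ p ∈ Y' → SchLoc.IsLocalIsoAt g₁ p := fun p hp => by
    refine localIsoAt_opens_ι g O p (not_not.mp fun hn => hp ?_)
    exact ((hOT p.1 p.2 hn).map g.continuous).mem_closure
  have hξO : genericPoint X ∈ O := (genericPoint_specializes z).mem_open O.2 hzO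
  have hξiso : SchLoc.IsLocalIsoAt g (genericPoint X) :=
    not_not.mp fun hn => hgen (hmax _ hn (genericPoint_specializes z))
  have hξY' : g (genericPoint X) ∈ Y' := fun h => by
    have h1 : g z ⤳ g (genericPoint X) := specializes_iff_mem_closure.mpr h
    exact hgen (eq_of_specializes_of_localIso g _ z hξiso (genericPoint_specializes z)
      (((genericPoint_specializes z).map g.continuous).antisymm h1).eq).symm
  haveI : IrreducibleSpace ↥(g₁ ⁻¹ᵁ Y').toScheme := by
    haveI : Nonempty ↥(g₁ ⁻¹ᵁ Y').toScheme := ⟨⟨⟨genericPoint X, hξO⟩, hξY'⟩⟩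
    let j := (g₁ ⁻¹ᵁ Y').ι ≫ O.ι
    haveI : PreirreducibleSpace ↥(g₁ ⁻¹ᵁ Y').toScheme :=
      ⟨by simpa using PreirreducibleSpace.isPreirreducible_univ.preimage j.isOpenEmbedding⟩
    exact ⟨‹_›⟩
  haveI : IsOpenImmersion (g₁ ∣_ Y') := by
    haveI : IsOpenImmersion ((g₁ ∣_ Y') ≫ Y'.ι) := by
      rw [morphismRestrict_ι]
      exact isOpenImmersion_of_localIso _ fun p => localIsoAt_opens_ι g₁ _ p (hY'iso _ p.2)
    exact IsOpenImmersion.of_comp _ Y'.ι
  let z₁ : O.toScheme := ⟨z, hzO⟩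
  have hmax₁ : ∀ p : O.toScheme, g₁ p = g z → p ⤳ z₁ → p = z₁ := fun p hp hpz => by
    have h1 : p.1 ⤳ z := hpz.map O.ι.continuous
    refine Subtype.ext ?_
    by_cases hn : SchLoc.IsLocalIsoAt g p.1
    · exact (eq_of_specializes_of_localIso g _ z hn h1 hp).symm
    · exact hmax _ hn h1
  by_cases hx : ∃ x : O.toScheme, g₁ x = g z ∧ z₁ ⤳ x ∧ x ≠ z₁
  · obtain ⟨x, hx, hzx, hne⟩ := hx
    left
    have h := dim_le_one_of_condition g₁ (g z) Y' rfl (hW _) z₁ x rfl hmax₁ hx hzx hne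
    exact (ringKrullDim_eq_of_ringEquiv (asIso (O.ι.stalkMap z₁)).commRingCatIsoToRingEquiv).trans_le h
  right
  push Not at hx
  -- all points of the fibre in `O` are generic points of its components
  have hgenfib : ∀ p q : O.toScheme, g₁ p = g z → g₁ q = g z → q ⤳ p → q = p := fun p q hp hq hqp => by
    have h1 : q.1 ⤳ p.1 := hqp.map O.ι.continuous
    by_cases hn : SchLoc.IsLocalIsoAt g q.1
    · exact Subtype.ext (eq_of_specializes_of_localIso g q.1 p.1 hn h1 (hq.trans hp.symm)).symm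
    · have h2 : z ⤳ q.1 := hOT q.1 q.2 hn
      have hz₁q : z₁ ⤳ q := O.ι.isEmbedding.isInducing.specializes_iff.mp h2
      exact (hx q hq hz₁q).trans (hx p hp (hz₁q.trans hqp)).symm
  obtain ⟨(O₂ : O.toScheme.Opens), (hO₂ : IsAffineOpen O₂), hzO₂, -⟩ := Opens.isBasis_iff_nbhd.mp
    O.toScheme.isBasis_affineOpens (show z₁ ∈ (⊤ : O.toScheme.Opens) from trivial)
  let k := g₁.fiberι (g z)
  haveI := H8Props.FieldDim.locallyOfFiniteType_fiberToSpec g₁ (g z)
  haveI : IsLocallyNoetherian (g₁.fiber (g z)) := LocallyOfFiniteType.isLocallyNoetherian (g₁.fiberToSpecResidueField (g z))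
  haveI : QuasiCompact (Y.fromSpecResidueField (g z)) := ⟨fun U _ _ => Set.subsingleton_of_subsingleton.isCompact⟩
  haveI : QuasiCompact k := MorphismProperty.pullback_fst _ _ inferInstance
  haveI : CompactSpace (k ⁻¹ᵁ O₂).toScheme := isCompact_iff_compactSpace.mp (k.isCompact_preimage hO₂.isCompact)
  haveI : IsLocallyNoetherian (k ⁻¹ᵁ O₂).toScheme := isLocallyNoetherian_of_isOpenImmersion (k ⁻¹ᵁ O₂).ι
  haveI : IsNoetherian (k ⁻¹ᵁ O₂).toScheme := {}
  let m := (k ⁻¹ᵁ O₂).ι ≫ k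
  have hm : ∀ a, g₁ (m a) = g z := fun a => (g₁.range_fiberι (g z)).le ⟨_, rfl⟩
  have hfin : Finite (k ⁻¹ᵁ O₂).toScheme := by
    haveI := (NoetherianSpace.finite_irreducibleComponents (α := (k ⁻¹ᵁ O₂).toScheme)).to_subtype
    refine Finite.of_injective (fun a => (⟨closure {a}, H06Equidim.closure_singleton_mem_irreducibleComponents a
      fun b hb => m.isEmbedding.injective (hgenfib _ _ (hm a) (hm b) (hb.map m.continuous))⟩ :
        ↥(irreducibleComponents (k ⁻¹ᵁ O₂).toScheme))) fun a b h => ?_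
    exact H06EGA14.eq_of_closure_singleton_eq (congrArg Subtype.val h)
  let F : Set X := (fun a => (m a).1) '' {a | m a ≠ z₁}
  have hF : IsClosed (⋃ v ∈ F, closure ({v} : Set X)) :=
    (Set.toFinite _).image _ |>.isClosed_biUnion fun _ _ => isClosed_closure
  refine ⟨O.ι ''ᵁ O₂ ⊓ ⟨_, hF.isOpen_compl⟩, ⟨⟨z₁, hzO₂, rfl⟩, fun h => ?_⟩, ?_⟩
  · obtain ⟨v, ⟨a, ha, rfl⟩, hv⟩ := Set.mem_iUnion₂.mp h
    exact ha (hgenfib z₁ (m a) rfl (hm a)
      (O.ι.isEmbedding.isInducing.specializes_iff.mp (specializes_iff_mem_closure.mpr hv)))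
  · rintro _ ⟨⟨p, hp, rfl⟩, hpF⟩ hpz
    by_contra hne
    obtain ⟨u, rfl⟩ : p ∈ Set.range k := by rw [g₁.range_fiberι]; exact hpz
    exact hpF (Set.mem_iUnion₂.mpr ⟨_, ⟨⟨u, hp⟩, fun he => hne (congrArg Subtype.val he), rfl⟩, subset_closure rfl⟩)

end Groth.Agent.H06Purity
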